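import Cfsg.Agent.Lib.MinDeg.Geo
import Cfsg.Agent.Lib.MinDeg.Count
import Cfsg.Agent.Lib.Orth.Count

/-!
# The unipotent radical of a point stabilizer acting on a permutation representation
-/

set_option autoImplicit false

namespace Cfsg.Lib.MinDeg

open Module QuadraticMap Submodule Cfsg.Lib.Orth

variable {F V : Type*} [Field F] [AddCommGroup V] [Module F V] {Q : QuadraticForm F V}

theorem eich_pow {a b : V} (hb : polar Q a b = 0) (k : ℕ) : eich Q a b ^ k = eich Q a ((k : F) • b) := by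
  induction k with
  | zero => simp
  | succ k ih => rw [pow_succ, ih, ← eich_add' (by simp [hb]) hb, Nat.cast_succ, add_smul, one_smul]

namespace Setup

variable (S : Setup Q) {Ω : Type*} [MulAction S.G Ω]

open Classical in
/-- Eichler transformations as elements of the group. -/
noncomputable def el (x u : V) : S.G :=
  if h : x ∈ perp Q S.Y ∧ u ∈ perp Q S.Y then ⟨eich Q x u, S.eich_mem x h.1 u h.2⟩ else 1

/-- The stabilizer of a point, as a group of isometries. -/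
def Hs (ω : Ω) : Subgroup (O Q) := (MulAction.stabilizer S.G ω).map S.G.subtype

variable {S} {x u w : V} {ω : Ω}

theorem coe_el (hx : x ∈ perp Q S.Y) (hu : u ∈ perp Q S.Y) : (S.el x u : O Q) = eich Q x u := by
  rw [el, dif_pos ⟨hx, hu⟩]

theorem Hs_le (ω : Ω) : S.Hs ω ≤ S.G := Subgroup.map_subtype_le _

theorem mem_Hs {g : S.G} : (g : O Q) ∈ S.Hs ω ↔ g • ω = ω :=
  Subgroup.mem_map_iff_mem Subtype.val_injective

theorem eich_mem_Hs (hx : x ∈ perp Q S.Y) (hu : u ∈ perp Q S.Y) :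
    eich Q x u ∈ S.Hs ω ↔ S.el x u • ω = ω := by rw [← coe_el hx hu, mem_Hs]

variable (S) in
/-- The unipotent radical of the stabilizer of `x`. -/
noncomputable def root (x : V) : Root S.G V where
  N := (S.N x).toAddSubgroup
  e := S.el x
  e_add u hu u' hu' := by
    by_cases hx : x ∈ perp Q S.Y
    · exact Subtype.ext (by
        rw [Subgroup.coe_mul, coe_el hx (N_le x hu), coe_el hx (N_le x hu'),
          coe_el hx (N_le x (add_mem hu hu')), eich_add' (mem_N.1 hu).2 (mem_N.1 hu').2])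
    · simp [el, hx]

theorem mem_stab (hx : S.Pt x) : u ∈ (S.root x).stab ω ↔ u ∈ S.N x ∧ eich Q x u ∈ S.Hs ω :=
  and_congr_right fun hu => (eich_mem_Hs hx.mem (N_le x hu)).symm

theorem conj_root {g : S.G} {x' : V} {c : F} (hc : c ≠ 0) (hx : S.Pt x) (h : g.1.1 x = c • x') :
    Root.Conj (S.root x) (S.root x') g (g.1.1.trans (LinearEquiv.smulOfNeZero F V c hc)).toAddEquiv := by
  have h1 : S.Pt x' := by
    simpa [h, smul_smul, hc] using (hx.map (S.G_le g.2)).smul (inv_ne_zero hc)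
  have h2 : ∀ u, c • g.1.1 u ∈ S.N x' ↔ u ∈ S.N x := fun u => by
    rw [smul_mem_iff _ hc, ← N_smul hc, ← h]
    exact ⟨fun e => by simpa using map_mem_N (inv_mem (S.G_le g.2)) e, map_mem_N (S.G_le g.2)⟩
  refine ⟨h2, fun u hu => Subtype.ext ?_⟩
  change g.1 * (S.el x u).1 * g.1⁻¹ = (S.el x' (c • g.1.1 u)).1
  have h3 := (h2 u).2 hu
  rw [coe_el hx.mem (N_le x hu), coe_el h1.mem (N_le _ h3), conj_eich, h, eich_smul_left h1.sing]
  simpa [hc] using (mem_N.1 h3).2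

theorem reg_iff (hx : S.Pt x) : S.Reg (S.Hs ω) x ↔ ∀ u ∈ (S.root x).stab ω, u ∈ S.Z x :=
  ⟨fun h u hu => h u hu.1 ((mem_stab hx).1 hu).2, fun h u h1 h2 => h u ((mem_stab hx).2 ⟨h1, h2⟩)⟩

theorem mem_D_iff (hx : S.Pt x) : u ∈ S.D (S.Hs ω) x ↔ ∀ c : F, c • u ∈ (S.root x).stab ω :=
  ⟨fun h c => (mem_stab hx).2 ⟨smul_mem _ c h.1, h.2 c⟩,
    fun h => ⟨one_smul F u ▸ (h 1).1, fun c => ((mem_stab hx).1 (h c)).2⟩⟩

theorem map_mem_D_smul (hx : S.Pt x) (g : S.G) :
    g.1.1 u ∈ S.D (S.Hs (g • ω)) (g.1.1 x) ↔ u ∈ S.D (S.Hs ω) x := by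
  rw [mem_D_iff hx, mem_D_iff (hx.map (S.G_le g.2))]
  refine forall_congr' fun c => ?_
  rw [← (conj_root (g := g) one_ne_zero hx (one_smul F _).symm).mem_stab]
  simp

theorem reg_smul (hx : S.Pt x) (g : S.G) :
    S.Reg (S.Hs (g • ω)) (g.1.1 x) ↔ S.Reg (S.Hs ω) x := by
  have h := fun u => (conj_root (g := g) one_ne_zero hx (one_smul F _).symm).mem_stab (ω := ω) (u := u)
  rw [reg_iff hx, reg_iff (hx.map (S.G_le g.2))]
  refine ⟨fun e u hu => by simpa using map_mem_Z (inv_mem (S.G_le g.2)) (e _ ((h u).2 hu)),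
    fun e u hu => ?_⟩
  obtain ⟨u, rfl⟩ := g.1.1.surjective u
  exact map_mem_Z (S.G_le g.2) (e u ((h u).1 (by simpa using hu)))

variable [Finite F]

variable (S) in
/-- The annihilator of the stabilizer of `ω` in the unipotent radical. -/
noncomputable abbrev A (x : V) (ω : Ω) : AddSubgroup V := (S.root x).A (polarBilin Q) ω

variable (S Ω) in
/-- The multiplicity of a character of the unipotent radical. -/
noncomputable abbrev m (x w : V) : ℕ := (S.root x).m Ω (polarBilin Q) w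

theorem mem_A_smul {g : S.G} {x' w' : V} {c : F} (hc : c ≠ 0) (hx : S.Pt x) (h : g.1.1 x = c • x')
    (hw : g.1.1 w = c • w') : w' ∈ S.A x' (g • ω) ↔ w ∈ S.A x ω :=
  (conj_root hc hx h).mem_A fun u _ => by
    change polar Q w' (c • g.1.1 u) = polar Q w u
    rw [polar_smul_right', ← polar_smul_left', ← hw, O.map_polar]

theorem m_smul {g : S.G} {x' w' : V} {c : F} (hc : c ≠ 0) (hx : S.Pt x) (h : g.1.1 x = c • x')
    (hw : g.1.1 w = c • w') : S.m Ω x' w' = S.m Ω x w :=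
  (conj_root hc hx h).m_eq fun u _ => by
    change polar Q w' (c • g.1.1 u) = polar Q w u
    rw [polar_smul_right', ← polar_smul_left', ← hw, O.map_polar]

theorem Z_le_A (hw : w ∈ S.Z x) : w ∈ S.A x ω :=
  Root.ann_le_A ω (mem_ann_of_perp fun _ hu => mem_perp.1 hu w hw)

theorem polar_of_mem_A (hx : S.Pt x) (hw : w ∈ S.A x ω) (hu : u ∈ S.D (S.Hs ω) x) :
    polar Q w u = 0 := perp_of_mem_ann hw ((mem_D_iff hx).1 hu)

theorem N_le_A (hx : S.Pt x) (hr : S.Reg (S.Hs ω) x) (hw : w ∈ S.N x) : w ∈ S.A x ω :=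
  mem_ann_of_perp fun u hu => mem_perp'.1 hw u ((reg_iff hx).1 hr u hu)

variable [FiniteDimensional F V]

theorem polar_nd (S : Setup Q) (u : V) (h : ∀ w, polarBilin Q w u = 0) : u = 0 :=
  S.nd.eq_zero fun w => (polar_comm _ _ _).trans (h w)

theorem mem_stab_of_perp (h : ∀ w ∈ S.A x ω, polar Q w u = 0) : u ∈ (S.root x).stab ω :=
  haveI := finite_of_finiteDimensional F V
  mem_of_perp_ann S.polar_nd (polar_comm Q) h

theorem perp_D (hx : S.Pt x) : perp Q (S.D (S.Hs ω) x) = span F (S.A x ω : Set V) := by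
  rw [← perp_perp S.nd (span F _)]
  congr 1
  exact Submodule.ext fun u => (mem_perp_span.trans ⟨fun h => (mem_D_iff hx).2 fun c =>
    mem_stab_of_perp fun w hw => by simp [h w hw], fun h w hw => polar_of_mem_A hx hw h⟩).symm

theorem reg_of_N_le (hx : S.Pt x) (h : ∀ w ∈ S.N x, w ∈ S.A x ω) : S.Reg (S.Hs ω) x :=
  (reg_iff hx).2 fun u hu => by
    rw [← perp_perp S.nd (S.Z x)]
    exact mem_perp.2 fun w hw => eq_zero_of_psi fun c => by
      simpa using h _ (smul_mem _ c hw) u hu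

theorem mem_ann_root : w ∈ ann (polarBilin Q) (S.root x).N ↔ w ∈ S.Z x :=
  ⟨fun h => by
    rw [← perp_perp S.nd (S.Z x)]
    exact mem_perp'.2 fun u hu => perp_of_mem_ann h fun c => smul_mem (S.N x) c hu,
  fun h => mem_ann_of_perp fun _ hu => mem_perp.1 hu w h⟩

theorem card_ann_root : Nat.card (ann (polarBilin Q) (S.root x).N) =
    Nat.card F ^ finrank F (S.Z x) := by
  rw [Nat.card_congr (Equiv.subtypeEquivRight fun _ => mem_ann_root)]
  exact card_eq_pow (S.Z x)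

theorem m_eq_of_pair {x' w' : V} {c : F} (hc : c ≠ 0) (hx : S.Pt x) (hx' : S.Pt x') (hw : w ∈ S.N x)
    (hw' : w' ∈ S.N x') (h1 : w ∉ S.Z x) (h2 : w' ∉ S.Z x') (h : Q w = c ^ 2 * Q w') :
    S.m Ω x' w' = S.m Ω x w := by
  obtain ⟨g, hg, h3, h4⟩ := exists_map_pair hx (hx'.smul hc) hw (w' := c • w')
    (by rw [N_smul hc]; exact smul_mem _ c hw') h1 (by rwa [Z_smul hc, smul_mem_iff _ hc])
    (h.trans (Q_smul _ _ _).symm)
  exact m_smul (g := ⟨g, hg⟩) hc hx h3 h4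

omit [FiniteDimensional F V] in
/-- The covering property of regular points. -/
theorem cover (h : ∀ x, S.Pt x → ∀ ω ω' : Ω, S.Reg (S.Hs ω) x → S.Reg (S.Hs ω') x →
    (S.root x).rel Ω ω ω') (ω : Ω) : ∀ g ∈ S.G, ∀ x, S.Pt x → S.Reg (S.Hs ω) x →
      S.Reg (S.Hs ω) (g.1 x) → ∃ u ∈ S.N (g.1 x), eich Q (g.1 x) u * g ∈ S.Hs ω := by
  intro g hg x hx h1 h2
  have hx' := hx.map (S.G_le hg)
  obtain ⟨u, hu, h3⟩ := h _ hx' ω _ h2 ((reg_smul hx ⟨g, hg⟩).2 h1)
  refine ⟨u, hu, ?_⟩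
  rw [← coe_el hx'.mem (N_le _ hu)]
  exact (mem_Hs (g := S.el _ u * ⟨g, hg⟩) (ω := ω)).2 (by rw [mul_smul]; exact h3.symm)

variable [Finite Ω]

omit [FiniteDimensional F V] in
theorem eich_mem_A {p : ℕ} (hp : p.Prime) [CharP F p] (hx : S.Pt x) {χ : V} (hχ : χ ∈ S.A x ω)
    (hm : S.m Ω x χ < p) {a b : V} (ha : Q a = 0) (ha' : a ∈ perp Q (S.Z x ⊔ F ∙ χ))
    (hb : b ∈ perp Q (S.Z x ⊔ F ∙ χ)) (hab : polar Q a b = 0) {y : V} (hy : y ∈ S.A x ω) :
    (eich Q a b).1 y ∈ S.A x ω := by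
  have h1 : ∀ v ∈ perp Q (S.Z x ⊔ F ∙ χ), v ∈ perp Q S.Y := fun v =>
    fun hv => perp_anti (le_sup_left.trans le_sup_left) hv
  have h2 : ∀ v ∈ S.Z x ⊔ F ∙ χ, (S.el a b).1.1 v = (1 : F) • v := fun v hv => by
    rw [coe_el (h1 a ha') (h1 b hb), eich_apply_of_perp ha hab (mem_perp'.1 ha' v hv),
      mem_perp'.1 hb v hv, zero_smul, add_zero, one_smul]
  have h3 := h2 x (mem_sup_left (self_mem_Z x))
  have h4 := (conj_root one_ne_zero hx h3).rel_of_m_lt (B := polarBilin Q) (w := χ) (fun u _ => by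
    change polar Q χ ((1 : F) • (S.el a b).1.1 u) = polar Q χ u
    rw [polar_smul_right', ← polar_smul_left', ← h2 χ (mem_sup_right (mem_span_singleton_self χ)),
      O.map_polar]) hp (Subtype.ext (by
    rw [Subgroup.coe_pow, coe_el (h1 a ha') (h1 b hb), eich_pow hab]; simp)) hm hχ
  rw [← coe_el (h1 a ha') (h1 b hb), A, ← Root.A_eq_of_rel h4]
  exact (mem_A_smul one_ne_zero hx h3 (one_smul F _).symm).2 hy

/-- A lower bound for the degree from lower bounds for the multiplicities. -/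
theorem sum_le {ι : Type*} [Fintype ι] (f : ι → V) (hf : Function.Injective f)
    (h : ∀ i, f i ∉ S.Z x) : Nat.card F ^ finrank F (S.Z x) * S.m Ω x 0 + ∑ i, S.m Ω x (f i) ≤
      Nat.card F ^ finrank F (S.Z x) * Nat.card Ω := by
  classical
  haveI := finite_of_finiteDimensional F V
  haveI := Fintype.ofFinite V
  rw [← card_ann_root, ← Root.sum_m' S.polar_nd, ← Finset.sum_image fun _ _ _ _ e => hf e]
  exact Nat.add_le_add_left (Finset.sum_le_sum_of_subset fun w hw => by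
    obtain ⟨i, -, rfl⟩ := Finset.mem_image.1 hw
    simpa [mem_ann_root] using h i) _

omit [Finite F] [FiniteDimensional F V] in
/-- A lower bound for the degree from an invariant subspace. -/
theorem card_le_of_invariant {D : Submodule F V} (hD : ∀ g ∈ S.Hs ω, ∀ d ∈ D, g.1 d ∈ D)
    {ι : Type*} (f : ι → S.G) (hf : ∀ i j, D.map ((f i).1.1 : V →ₗ[F] V) =
      D.map ((f j).1.1 : V →ₗ[F] V) → i = j) : Nat.card ι ≤ Nat.card Ω := by
  have key : ∀ i j, f i • ω = f j • ω → D.map ((f i).1.1 : V →ₗ[F] V) ≤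
      D.map ((f j).1.1 : V →ₗ[F] V) := by
    rintro i j e _ ⟨d, hd, rfl⟩
    exact ⟨_, hD _ ((mem_Hs (g := (f j)⁻¹ * f i)).2 (by rw [mul_smul, e, inv_smul_smul])) d hd,
      O.apply_inv_apply _ _⟩
  exact Nat.card_le_card_of_injective (fun i => f i • ω) fun i j e =>
    hf i j (le_antisymm (key i j e) (key j i e.symm))

end Setup

end Cfsg.Lib.MinDeg
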